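import Groth.Agent.EtShLib.StrataTop
import Groth.Agent.EtShLib.RestrPull

/-!
# Bounds on integral closed subschemes
-/

set_option autoImplicit false
set_option linter.all false
set_option backward.isDefEq.respectTransparency false
set_option backward.isDefEq.respectTransparency.types false
set_option synthInstance.maxHeartbeats 400000
set_option maxHeartbeats 1000000

universe u

open CategoryTheory CategoryTheory.Limits AlgebraicGeometry Opposite TopologicalSpace
open Groth.Agent Groth.Agent.EtShLib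

noncomputable section

namespace EtCdFinLib

variable {X : Scheme.{u}}

/-- The reduced closure of a point. -/
theorem exists_closure_subscheme {S : Scheme.{u}} (s : S) :
    ∃ (W : Scheme.{u}) (c : W ⟶ S), IsIntegral W ∧ IsClosedImmersion c ∧ Set.range c.base = closure {s} := by
  obtain ⟨W, c, hc, hW, hr⟩ := exists_reduced_immersion (isClosed_closure (s := ({s} : Set S))).isLocallyClosed
  haveI := hc; haveI := hW
  have hr' : Set.range c.base = closure {s} := hr
  haveI : IsClosedImmersion c := IsClosedImmersion.of_isPreimmersion c (by rw [hr']; exact isClosed_closure)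
  haveI : IrreducibleSpace W := by
    haveI : IrreducibleSpace ↥(closure ({s} : Set S)) :=
      (isIrreducible_iff_irreducibleSpace).1 isIrreducible_singleton.closure
    let e := c.isEmbedding.toHomeomorph.trans (Homeomorph.setCongr hr')
    haveI : Nonempty W := ⟨e.symm ⟨s, subset_closure rfl⟩⟩
    haveI : PreirreducibleSpace W := ⟨by
      simpa using (IsIrreducible.isPreirreducible (IrreducibleSpace.isIrreducible_univ ↥(closure ({s} : Set S)))).image e.symm e.symm.continuous.continuousOn⟩
    exact { toPreirreducibleSpace := inferInstance, toNonempty := inferInstance }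
  exact ⟨W, c, isIntegral_of_irreducibleSpace_of_isReduced W, inferInstance, hr'⟩

variable (φ : ∀ (Y : Scheme.{u}), (Y ⟶ X) → ℕ)

/-- Monotonicity of a dimension function. -/
def Mono' : Prop :=
  ∀ (Y₁ Y₂ : Scheme.{u}) (g₁ : Y₁ ⟶ X) (g₂ : Y₂ ⟶ X) [IsIntegral Y₁] [IsIntegral Y₂] [IsFinite g₁] [IsFinite g₂]
    (m : Y₁ ⟶ Y₂), m ≫ g₂ = g₁ → φ Y₁ g₁ ≤ φ Y₂ g₂ ∧ (IsClosedImmersion m → ¬ IsIso m → φ Y₁ g₁ < φ Y₂ g₂)

/-- All integral closed subschemes have `φ < q`. -/
def DBound {S : Scheme.{u}} (g : S ⟶ X) (q : ℕ) : Prop :=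
  ∀ (W : Scheme.{u}) (c : W ⟶ S) [IsIntegral W] [IsClosedImmersion c], φ W (c ≫ g) < q

variable {φ}

theorem isEmpty_of_dBound {S : Scheme.{u}} {g : S ⟶ X} (h : DBound φ g 0) : IsEmpty S := ⟨fun s => by
  obtain ⟨W, c, hW, hc, -⟩ := exists_closure_subscheme s
  haveI := hW; haveI := hc
  exact Nat.not_lt_zero _ (h W c)⟩

theorem DBound.mono {S : Scheme.{u}} {g : S ⟶ X} {q q' : ℕ} (h : DBound φ g q) (hle : q ≤ q') : DBound φ g q' :=
  fun W c _ _ => (h W c).trans_le hle

/-- A morphism from an integral scheme into the closure of a point. -/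
theorem exists_lift_closure {S W W' : Scheme.{u}} [IsIntegral W] (f : W ⟶ S) (c' : W' ⟶ S) [IsClosedImmersion c']
    {s : S} (hr : Set.range c'.base = closure {s}) (hs : s ⤳ f.base (genericPoint W)) : ∃ m : W ⟶ W', m ≫ c' = f := by
  refine exists_lift_immersion c' f fun x hx => ?_
  obtain ⟨w, rfl⟩ := hx
  show f.base w ∈ Set.range c'.base
  rw [hr, ← specializes_iff_mem_closure]
  exact hs.trans ((genericPoint_specializes w).map f.continuous)

theorem DBound.comp (hφ : Mono' φ) {S' S : Scheme.{u}} (π : S' ⟶ S) [IsFinite π] {g : S ⟶ X} [IsFinite g] {q : ℕ}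
    (h : DBound φ g q) : DBound φ (π ≫ g) q := fun W c _ _ => by
  obtain ⟨W', c', hW', hc', hr⟩ := exists_closure_subscheme ((c ≫ π).base (genericPoint W))
  haveI := hW'; haveI := hc'
  obtain ⟨m, hm⟩ := exists_lift_closure (c ≫ π) c' hr specializes_rfl
  exact lt_of_le_of_lt (hφ W W' (c ≫ π ≫ g) (c' ≫ g) m (by rw [← Category.assoc, hm, Category.assoc])).1 (h W' c')

theorem DBound.pred (hφ : Mono' φ) {B S : Scheme.{u}} (i : B ⟶ S) [IsClosedImmersion i] {g : S ⟶ X} [IsFinite g]
    {q : ℕ} (h : DBound φ g (q + 1))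
    (hB : ∀ b : B, ∃ s : S, s ∉ Set.range i.base ∧ s ⤳ i.base b) : DBound φ (i ≫ g) q := fun W c _ _ => by
  obtain ⟨s, hs, hsb⟩ := hB (c.base (genericPoint W))
  obtain ⟨W', c', hW', hc', hr⟩ := exists_closure_subscheme s
  haveI := hW'; haveI := hc'
  obtain ⟨m, hm⟩ := exists_lift_closure (c ≫ i) c' hr hsb
  haveI : IsClosedImmersion (m ≫ c') := by rw [hm]; infer_instance
  haveI : IsClosedImmersion m := IsClosedImmersion.of_comp m c'
  have hlt := (hφ W W' (c ≫ i ≫ g) (c' ≫ g) m (by rw [← Category.assoc, hm, Category.assoc])).2 inferInstance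
    (fun hiso => hs (by
      obtain ⟨w', hw'⟩ := hr.ge (subset_closure (rfl : s ∈ ({s} : Set S)))
      obtain ⟨w, rfl⟩ := (TopCat.homeoOfIso (asIso m.base)).surjective w'
      exact ⟨c.base w, ((congrArg (fun t : W ⟶ S => t.base w) hm).symm.trans hw')⟩))
  have := h W' c'
  omega

end EtCdFinLib
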