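import Groth.Agent.EtCdFinLib.Small

/-!
# Dévissage on schemes finite over the base
-/

set_option autoImplicit false
set_option linter.all false
set_option backward.isDefEq.respectTransparency false
set_option backward.isDefEq.respectTransparency.types false
set_option synthInstance.maxHeartbeats 400000
set_option maxHeartbeats 1000000

universe u

open CategoryTheory CategoryTheory.Limits CategoryTheory.Abelian AlgebraicGeometry Opposite TopologicalSpace
open Groth.Agent Groth.Agent.EtShLib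
open CdCharPLib (additive_preF shortExact_preF isZero_of_stk nsmul_eq_zero_of_stk StkLe exists_stkLe lc_const lc_pull exists_section_cover nsmul_pull stk_nsmul_eq_zero nsmul_openPart)

noncomputable section

namespace EtCdFinLib

section Van

variable {X : Scheme.{u}}

/-- The cohomology of `F` vanishes above degree `d`. -/
def Van (d : ℕ) (F : EtCoh.Ab X) : Prop := ∀ q : ℕ, d < q → Subsingleton (EtCoh.H X F q)

theorem Van.of_iso {d : ℕ} {F G : EtCoh.Ab X} (h : Van d F) (e : F ≅ G) : Van d G := fun q hq =>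
  haveI := h q hq
  (EtAcycLib.bijective_mk₀_iso_postcomp e q).2.subsingleton

theorem Van.of_retract {d : ℕ} {F G : EtCoh.Ab X} (h : Van d G) (u : F ⟶ G) (v : G ⟶ F) (e : u ≫ v = 𝟙 F) :
    Van d F := fun q hq => by
  haveI := h q hq
  refine subsingleton_of_forall_eq 0 fun (x : Ext.{u + 1} _ F q) => ?_
  have h1 : x.comp (Ext.mk₀ u) (add_zero q) = 0 := Subsingleton.elim (α := EtCoh.H X G q) _ _
  have h2 := congrArg (fun t => Ext.comp t (Ext.mk₀ v) (add_zero q)) h1
  simp only [Ext.comp_assoc_of_second_deg_zero, Ext.mk₀_comp_mk₀, e, Ext.comp_mk₀_id, Ext.zero_comp] at h2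
  exact h2

theorem Van.middle {d : ℕ} {S : ShortComplex (EtCoh.Ab X)} (hS : S.ShortExact) (h1 : Van d S.X₁)
    (h3 : Van d S.X₃) : Van d S.X₂ := fun q hq => by
  refine subsingleton_of_forall_eq 0 fun (x : Ext.{u + 1} _ S.X₂ q) => ?_
  obtain ⟨y, hy⟩ := Ext.covariant_sequence_exact₂ _ hS x
    ((h3 q hq).elim (Ext.comp x (Ext.mk₀ S.g) (add_zero q) : EtCoh.H X S.X₃ q) 0)
  rw [← hy, (h1 q hq).elim (y : EtCoh.H X S.X₁ q) 0, Ext.zero_comp]

theorem van_of_isZero {d : ℕ} {F : EtCoh.Ab X} (h : IsZero F) : Van d F := fun q _ => by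
  refine subsingleton_of_forall_eq 0 fun (x : Ext.{u + 1} _ F q) => ?_
  rw [← Ext.comp_mk₀_id x, h.eq_of_src (𝟙 F) 0, Ext.mk₀_zero, Ext.comp_zero]

end Van

variable {X : Scheme.{u}} [IsNoetherian X] {φ : ∀ (Y : Scheme.{u}), (Y ⟶ X) → ℕ} (hφ : Mono' φ)
  {S : Scheme.{u}} (g₀ : S ⟶ X) [IsFinite g₀]

include hφ in
/-- `g_! ℤ/p` has no cohomology above degree `d`. -/
theorem van_preF_const (p : ℕ) [hp : Fact p.Prime] (h2 : ConstBound φ p) {d : ℕ} (ihP : P φ p d) (hD : DBound φ g₀ (d + 1))
    {T : Scheme.{u}} (g : T ⟶ S) [LocallyOfFiniteType g] [IsSeparated g]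
    [LocallyQuasiFinite g] [QuasiCompact g] :
    Van d ((preF g).obj (EtCoh.const T (ZMod p))) := by
  haveI := isNoetherian_of_finite g₀
  haveI := CdCharPLib.locallyOfFinitePresentation_of_noetherian g
  obtain ⟨Z, j, π, hj, -, hπ, -, hfac⟩ := FinSurjLib.exists_finite_factorization g
  haveI := hj; haveI := hπ
  haveI := isIso_preι π
  let U := j.opensRange
  let e : T ⟶ (U : Scheme.{u}) := j.isoOpensRange.hom
  haveI : IsIso e := inferInstance
  haveI := isIso_preι e
  haveI : AlgebraicGeometry.Etale U.ι := inferInstance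
  haveI : EtShriek.JCont U.ι := jCont U.ι
  have he : e ≫ U.ι = j := Scheme.Hom.isoOpensRange_hom_ι j
  have hg : (e ≫ U.ι) ≫ π = g := by rw [he, hfac]
  haveI : LocallyOfFiniteType U.ι := inferInstance
  obtain ⟨γ⟩ := nonempty_preF_congr hg
  obtain ⟨c⟩ := CdCharPLib.nonempty_const_push_iso e (ZMod p)
  obtain ⟨θ⟩ := nonempty_pull_iso_restrAlong U.ι (EtCoh.const Z (ZMod p))
  let r : EtCoh.const (U : Scheme.{u}) (ZMod p) ≅ (EtShriek.restrAlong U.ι).obj (EtCoh.const Z (ZMod p)) :=
    (EtCore.pullConst U.ι (ZMod p)).symm ≪≫ θ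
  have h1 : Van d ((EtShriek.extZero U.ι).obj ((EtShriek.restrAlong U.ι).obj (EtCoh.const Z (ZMod p)))) :=
    fun q hq => van_extZero hφ hp.out.pos h2 ihP (π ≫ g₀) (hD.comp hφ π) U q hq
  refine ((show Van d ((EtCoh.push π).obj _) from fun q hq => CdCharPLib.subsingleton_push_H π _ q (h1 q hq)).of_iso ?_).of_iso (γ.app (EtCoh.const T (ZMod p)))
  exact (EtCoh.push π).mapIso ((extZeroPreIso U.ι).app _ ≪≫ (preF U.ι).mapIso (r.symm ≪≫ c.symm ≪≫
      ((asIso (preι e)).app _).symm) ≪≫ ((preCompIso e U.ι).app _).symm) ≪≫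
    ((asIso (preι π)).app _).symm ≪≫ ((preCompIso (e ≫ U.ι) π).app _).symm

variable (p : ℕ) [hp : Fact p.Prime] (h2 : ConstBound φ p) {d : ℕ} (ihP : P φ p d) (hD : DBound φ g₀ (d + 1))

include hφ h2 ihP hD in
theorem van_preF_lc : ∀ (N : ℕ) {T : Scheme.{u}} (g : T ⟶ S) [LocallyOfFiniteType g] [IsSeparated g]
    [LocallyQuasiFinite g] [QuasiCompact g] (L : EtCoh.Ab T),
    LC (fun M : AddCommGrpCat.{u + 1} => Finite M) L → p • 𝟙 L = 0 → StkLe L N → Van d ((preF g).obj L) := by
  haveI := isNoetherian_of_finite g₀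
  intro N
  induction N with
  | zero =>
    intro T g _ _ _ _ L _ _ hN
    haveI := additive_preF g
    refine van_of_isZero ((preF g).map_isZero (isZero_of_stk fun Ω _ _ ξ => ?_))
    obtain ⟨h1, h2⟩ := hN Ω ξ
    haveI := h1
    haveI : Subsingleton ((stk (A := AddCommGrpCat.{u + 1}) ξ).obj L) := (Finite.card_le_one_iff_subsingleton).1 h2
    exact AddCommGrpCat.isZero_of_subsingleton _
  | succ N ih =>
    intro T g _ _ _ _ L hL hpL hN
    obtain ⟨E, π, hπf, hπe, v, ψ, hv, hψ⟩ := exists_section_cover p L hL hpL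
    haveI := hπf; haveI := hπe; haveI := hψ
    haveI := isIso_preι π
    let G := (EtCoh.pull π).obj L
    let Sq := ShortComplex.mk ψ (cokernel.π ψ) (cokernel.condition ψ)
    have hS : Sq.ShortExact := { exact := ShortComplex.exact_of_g_is_cokernel _ (cokernelIsCokernel ψ) }
    haveI : LocallyQuasiFinite π := inferInstance
    have hC : Van d ((preF (π ≫ g)).obj (cokernel ψ)) := by
      refine ih (π ≫ g) (cokernel ψ) ?_ ?_ ?_
      · refine LC.cokernel ψ (lc_const (ZMod p)) (lc_pull π hL) (fun M hM => @fg_Ab M hM) fun A B f _ hB => ?_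
        haveI : Finite B := hB
        exact Finite.of_surjective (cokernel.π f) ((AddCommGrpCat.epi_iff_surjective _).1 inferInstance)
      · rw [← cancel_epi (cokernel.π ψ), comp_zero, Preadditive.comp_nsmul, Category.comp_id,
          ← Category.id_comp (cokernel.π ψ), ← Preadditive.nsmul_comp, nsmul_pull π hpL, zero_comp]
      · intro Ω _ _ ξ
        obtain ⟨h1, h2⟩ := hN Ω (ξ ≫ π)
        haveI := h1
        let e := ((stalkPull π ξ AddCommGrpCat.{u + 1}).app L).addCommGroupIsoToAddEquiv.toEquiv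
        haveI : Finite ((stk (A := AddCommGrpCat.{u + 1}) ξ).obj G) := Finite.of_equiv _ e
        let q := (stk (A := AddCommGrpCat.{u + 1}) ξ).map (cokernel.π ψ)
        have hq : Function.Surjective q := (AddCommGrpCat.epi_iff_surjective _).1 inferInstance
        haveI : Finite ((stk (A := AddCommGrpCat.{u + 1}) ξ).obj (cokernel ψ)) := Finite.of_surjective _ hq
        refine ⟨inferInstance, Nat.le_of_lt_succ ?_⟩
        refine lt_of_lt_of_le ?_ (Nat.succ_le_succ (le_refl (N + 1)))
        refine lt_of_lt_of_le ?_ ((Nat.card_congr e).symm.le.trans h2)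
        haveI : Finite ↑((pullA π AddCommGrpCat.{u + 1} ⋙ stk (A := AddCommGrpCat.{u + 1}) ξ).obj L) := Finite.of_equiv _ e
        refine lt_of_le_of_ne (Nat.card_le_card_of_surjective _ hq) fun he => ?_
        have hqi := ((Nat.bijective_iff_surjective_and_card _).2 ⟨hq, he.symm⟩).1
        let A := AddCommGrpCat.of (ULift.{u + 1} (ZMod p))
        obtain ⟨c, -⟩ := exists_fib ξ (EtCoh.top E) (ξ.base default) rfl
        haveI := isCst_cstUnit (X := E) A Ω ξ c
        let γ := cstUnit E A ≫ germ ξ (EtCoh.const E (ZMod p)) (EtCoh.top E) c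
        have hm := (mono_iff_stalks (A := AddCommGrpCat.{u + 1}) ψ).1 hψ Ω ξ
        rw [AddCommGrpCat.mono_iff_injective] at hm
        have h3 : γ ⟨1⟩ = 0 := hm ((hqi (by
          rw [map_zero]
          show ((stk (A := AddCommGrpCat.{u + 1}) ξ).map ψ ≫ (stk (A := AddCommGrpCat.{u + 1}) ξ).map (cokernel.π ψ)) _ = 0
          rw [← Functor.map_comp, cokernel.condition]
          obtain ⟨W, w, s, hs⟩ := exists_germ (A := AddCommGrpCat.{u + 1}) ξ (γ ⟨1⟩)
          rw [← hs, germ_natural_apply]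
          exact map_zero _ : q _ = q 0)).trans (map_zero _).symm)
        exact one_ne_zero (congrArg ULift.down
          ((injective_iff_map_eq_zero _).1 (ConcreteCategory.bijective_of_isIso γ).1 _ h3))
    have hA : Van d ((preF (π ≫ g)).obj (EtCoh.const E (ZMod p))) := van_preF_const hφ g₀ p h2 ihP hD (π ≫ g)
    have hG : Van d ((preF (π ≫ g)).obj G) := Van.middle (shortExact_preF (π ≫ g) hS) hA hC
    have hG' : Van d ((preF g).obj ((EtCoh.push π).obj G)) :=
      hG.of_iso ((preCompIso π g).app G ≪≫ (preF g).mapIso ((asIso (preι π)).app G))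
    exact hG'.of_retract ((preF g).map ((EtCoh.pullPushAdj π).unit.app L)) ((preF g).map v)
      (by rw [← Functor.map_comp, hv, CategoryTheory.Functor.map_id])

include hφ h2 ihP hD in
/-- Constructible sheaves killed by `p`. -/
theorem van_of_killed {F : EtCoh.Ab S} (hF : IsCons (A := AddCommGrpCat.{u + 1}) FinP F) (hpF : p • 𝟙 F = 0) :
    Van d F := by
  haveI := isNoetherian_of_finite g₀
  obtain ⟨n, U, hU0, hUn, hcpt, hstep⟩ := exists_chain hF
  suffices key : ∀ k, k ≤ n → Van d (openPart F (U k)) by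
    obtain ⟨e⟩ := nonempty_openPart_top F
    have := key n le_rfl
    rw [hUn] at this
    exact this.of_iso e
  intro k
  induction k with
  | zero => intro _; rw [hU0]; exact van_of_isZero (isZero_openPart_bot F)
  | succ k ih =>
    intro hk
    obtain ⟨hle, hd⟩ := hstep k (Nat.lt_of_succ_le hk)
    obtain ⟨ι, W, c, hc, G, π, hz, -, hflc, hS⟩ := exists_step hle hd
    haveI := hc
    refine Van.middle hS (ih (Nat.le_of_succ_le hk)) ?_
    show Van d ((EtShriek.extZero (U (k + 1)).ι).obj ((EtCoh.push c).obj G))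
    let j := (U (k + 1)).ι
    haveI : QuasiCompact j := inferInstance
    haveI := isIso_preι c
    have hG : p • 𝟙 G = 0 := nsmul_eq_zero_of_stk fun Ω _ _ ζ P => by
      haveI := isIso_compare (A := AddCommGrpCat.{u + 1}) c ζ (refines_of_closedImmersion c ζ) G
      obtain ⟨Q, rfl⟩ := (ConcreteCategory.bijective_of_isIso (compare c ζ G)).2 P
      haveI := isIso_inclStalk j ((EtCoh.push c).obj G) ((ζ ≫ c) ≫ j) ⟨ζ ≫ c, rfl⟩
      have h3 : p • 𝟙 ((EtShriek.extZero j).obj ((EtCoh.push c).obj G)) = 0 := by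
        haveI : Epi π := hS.epi_g
        rw [← cancel_epi π, comp_zero, Preadditive.comp_nsmul, Category.comp_id, ← Category.id_comp π,
          ← Preadditive.nsmul_comp, nsmul_openPart p hpF, zero_comp]
      have h4 : p • Q = 0 := (ConcreteCategory.bijective_of_isIso
        (inclStalk j ((EtCoh.push c).obj G) ((ζ ≫ c) ≫ j) ⟨ζ ≫ c, rfl⟩)).1
          ((map_nsmul _ p Q).trans ((stk_nsmul_eq_zero h3 _ _).trans (map_zero _).symm))
      rw [← map_nsmul, h4, map_zero]
    haveI : CompactSpace W := by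
      haveI : CompactSpace (U (k + 1)).toScheme := isCompact_iff_compactSpace.1 (hcpt (k + 1))
      exact QuasiCompact.compactSpace_of_compactSpace c
    obtain ⟨N, hN⟩ := exists_stkLe ((isFLC_iff G).1 hflc)
    exact (van_preF_lc hφ g₀ p h2 ihP hD N (c ≫ j) G ((isFLC_iff G).1 hflc) hG hN).of_iso
      ((preCompIso c j).app G ≪≫ (preF j).mapIso ((asIso (preι c)).app G) ≪≫ ((extZeroPreIso j).app _).symm)

omit g₀ in
include hφ h2 in
/-- Vanishing on schemes finite over the base. -/
theorem main : ∀ q, P φ p q := by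
  intro q
  induction q with
  | zero =>
    intro S g hg hD F _ m _
    haveI := isEmpty_of_dBound hD
    exact EtBcBridgeLib.subsingleton_H_of_isZero (isZero_of_stk fun Ω _ _ ξ => isEmptyElim (ξ.base default)) m
  | succ d ih =>
    intro S g hg hD F hF m hm
    haveI := hg
    haveI := isNoetherian_of_finite g
    refine subsingleton_of_forall_eq 0 fun x => ?_
    obtain ⟨I, ι, hι, hI, z, rfl⟩ := PTorsCdLib.exists_cons_sub F
      (torsionBy_of_isTorsion (CdOneLib.isTorsion_of_nsmul_id p hp.out.pos hF)) m x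
    haveI := hι
    rw [(van_of_killed hφ g p h2 ih hD hI (PTorsCdLib.nsmul_id_of_mono ι hF) m (by omega)).elim z 0, Ext.zero_comp]

end EtCdFinLib

end
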