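import Groth.Agent.EtCdFinLib.Dev
import Groth.Prelude.Def_EtAcyc

/-!
# Torsion sheaves on schemes finite over the base
-/

set_option autoImplicit false
set_option linter.all false
set_option backward.isDefEq.respectTransparency false
set_option backward.isDefEq.respectTransparency.types false
set_option synthInstance.maxHeartbeats 400000
set_option maxHeartbeats 1000000

universe u

open CategoryTheory CategoryTheory.Limits CategoryTheory.Abelian AlgebraicGeometry Opposite TopologicalSpace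
open Groth.Agent Groth.Agent.EtShLib

noncomputable section

namespace EtCdFinLib

variable {X : Scheme.{u}} [IsNoetherian X] {φ : ∀ (Y : Scheme.{u}), (Y ⟶ X) → ℕ} (hφ : Mono' φ) (p : ℕ)
  [hp : Fact p.Prime] (h2 : ConstBound φ p)

include hφ h2 in
theorem subsingleton_H_killed_pow {S : Scheme.{u}} (g : S ⟶ X) [IsFinite g] (q : ℕ) (hD : DBound φ g q) (N : ℕ) :
    ∀ F : EtCoh.Ab S, (p ^ N) • 𝟙 F = 0 → Subsingleton (EtCoh.H S F q) := by
  induction N with
  | zero =>
    intro F hF
    rw [pow_zero, one_smul] at hF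
    exact EtBcBridgeLib.subsingleton_H_of_isZero ((IsZero.iff_id_eq_zero F).2 hF) q
  | succ N ih =>
    intro F hF
    let g' : F ⟶ F := p • 𝟙 F
    let T : ShortComplex (EtCoh.Ab S) := ShortComplex.mk (kernel.ι g') (Abelian.factorThruImage g')
      ((cancel_mono (Abelian.image.ι g')).1 (by rw [Category.assoc, Abelian.image.fac, kernel.condition, zero_comp]))
    have hT : T.ShortExact :=
      { exact := ShortComplex.exact_of_f_is_kernel _ (KernelFork.IsLimit.ofι' _ _ fun a ha =>
          ⟨kernel.lift g' a (by rw [← Abelian.image.fac g', ← Category.assoc, ha, zero_comp]), kernel.lift_ι _ _ _⟩)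
        mono_f := inferInstanceAs (Mono (kernel.ι g'))
        epi_g := inferInstanceAs (Epi (Abelian.factorThruImage g')) }
    have hI : (p ^ N) • 𝟙 T.X₃ = 0 := by
      haveI : Epi T.g := hT.epi_g
      rw [← cancel_epi T.g, Preadditive.comp_nsmul, Category.comp_id, comp_zero]
      show (p ^ N) • Abelian.factorThruImage g' = 0
      rw [← cancel_mono (Abelian.image.ι g'), Preadditive.nsmul_comp, Abelian.image.fac, zero_comp,
        show g' = p • 𝟙 F from rfl, ← mul_smul, ← pow_succ, hF]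
    exact PTorsCdLib.subsingleton_mid hT q
      (main hφ p h2 q S g inferInstance hD _ (EtKummerLib.nsmul_id_kernel F p) q le_rfl)
      (ih _ hI)

include hφ h2 in
theorem subsingleton_H {Y : Scheme.{u}} (g : Y ⟶ X) [IsFinite g] (F : EtCoh.Ab Y)
    (hF : EtAcyc.IsLTorsion {p} F) (q : ℕ)
    (hq : ∀ (Z : Scheme.{u}) (c : Z ⟶ Y) [IsIntegral Z] [IsClosedImmersion c],
      Set.range c.base ⊆ closure (EtPBC.supp F) → φ Z (c ≫ g) < q) :
    Subsingleton (EtCoh.H Y F q) := by
  haveI := isNoetherian_of_finite g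
  have hpos : ∀ m, (∃ j, m = p ^ j) → 0 < m := fun m ⟨j, hj⟩ => hj ▸ pow_pos hp.out.pos j
  have hF' : TorsionBy (fun m => ∃ j, m = p ^ j) F := fun Ω _ _ ξ P => by
    obtain ⟨U, u, s, rfl⟩ := exists_germ ξ P
    obtain ⟨V, a, m, ⟨y, hy⟩, ⟨hm0, hm⟩, hk⟩ := hF U s u.pt
    haveI := etale_left a
    obtain ⟨l, hl, -⟩ := Scheme.exists_fac_of_etale_of_isSepClosed a.left u.hom y hy
    let v : Fib ξ V := Fib.mk l (by
      rw [← u.w, ← hl, Category.assoc]
      exact congrArg (l ≫ ·) (MorphismProperty.Over.w a).symm)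
    have hv : v.map a = u := Fib.ext ((Fib.map_hom a v).trans hl)
    exact ⟨m, ⟨_, Nat.eq_prime_pow_of_unique_prime_dvd hm0.ne' fun {d} hd hdm => hm d hd hdm⟩,
      by rw [← hv, ← germ_res_apply, ← map_nsmul, hk, map_zero]⟩
  refine subsingleton_of_forall_eq 0 fun x => ?_
  obtain ⟨I, ι, hι, hI, z, rfl⟩ := PTorsCdLib.exists_cons_sub F (fun Ω _ _ ξ y => by
    obtain ⟨m, hm, h0⟩ := hF' Ω ξ y
    exact ⟨m, hpos m hm, h0⟩) q x
  haveI := hι
  obtain ⟨a, U, m, hm, ψ, hψ⟩ := exists_epi_cons hI (hF'.of_mono ι) hpos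
  haveI := hψ
  choose j hj using fun i => (hm i).1
  have hN : (p ^ ∑ i, j i) • 𝟙 I = 0 := PTorsCdLib.nsmul_id_of_epi ψ (PTorsCdLib.nsmul_id_biproduct _ fun i => by
    obtain ⟨c, hc⟩ := pow_dvd_pow p (Finset.single_le_sum (f := j) (fun _ _ => Nat.zero_le _) (Finset.mem_univ i))
    rw [hc, mul_comm, mul_smul, ← hj i, nsmul_id_extConst, smul_zero])
  let J := Scheme.IdealSheafData.vanishingIdeal (X := Y) ⟨closure (EtPBC.supp F), isClosed_closure⟩
  let i : J.subscheme ⟶ Y := J.subschemeι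
  have hr : Set.range i.base = closure (EtPBC.supp F) := J.range_subschemeι.trans
    (Scheme.IdealSheafData.coe_support_vanishingIdeal (X := Y) ⟨closure (EtPBC.supp F), isClosed_closure⟩)
  have hD : DBound φ (i ≫ g) q := fun W c _ _ => by
    have := hq W (c ≫ i) (by
      rw [← hr]
      rintro _ ⟨w, rfl⟩
      exact ⟨c.base w, (Scheme.Hom.comp_apply _ _ _).symm⟩)
    rwa [Category.assoc] at this
  haveI : (EtCoh.pull i).Additive := (EtCoh.pullPushAdj i).left_adjoint_additive
  haveI := subsingleton_H_killed_pow hφ p h2 (i ≫ g) q hD _ ((EtCoh.pull i).obj I)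
    (CdPrimeLib.nsmul_id_map (EtCoh.pull i) hN)
  haveI : IsIso ((EtCoh.pullPushAdj i).unit.app I) := by
    refine unit_isIso_of_vanish i I fun U hU => ?_
    refine ⟨fun a b => eq_of_germ (A := AddCommGrpCat.{u + 1}) I a b fun Ω _ _ ξ w => ?_⟩
    refine @Subsingleton.elim _ (AddCommGrpCat.subsingleton_of_isZero (isZero_stalk_of_notMem_supp ξ ?_)) _ _
    intro hmem
    refine hU ⟨w.pt, ?_⟩ (hr.ge (subset_closure (supp_subset_of_mono ι hmem)))
    show U.hom.base (w.hom.base default) = ξ.base default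
    exact congrArg (fun t : Spec (CommRingCat.of Ω) ⟶ Y => t.base default) w.w
  haveI h1 : Subsingleton (EtCoh.H Y ((EtCoh.pull i ⋙ EtCoh.push i).obj I) q) :=
    CdCharPLib.subsingleton_push_H i _ q inferInstance
  have h3 : Subsingleton (EtCoh.H Y I q) :=
    (EtAcycLib.bijective_mk₀_iso_postcomp (asIso ((EtCoh.pullPushAdj i).unit.app I)) q).1.subsingleton
  rw [h3.elim z 0, Ext.zero_comp]

end EtCdFinLib
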