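import Groth.Agent.EtCdFinLib.Bound
import Groth.Agent.PTorsCdLib.Main
import Groth.Agent.CdCharPLib.Main

/-!
# Extensions by zero of constant sheaves and sheaves vanishing at the maximal points
-/

set_option autoImplicit false
set_option linter.all false
set_option backward.isDefEq.respectTransparency false
set_option backward.isDefEq.respectTransparency.types false
set_option synthInstance.maxHeartbeats 400000
set_option maxHeartbeats 1000000

universe u

open CategoryTheory CategoryTheory.Limits CategoryTheory.Abelian AlgebraicGeometry Opposite TopologicalSpace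
open Groth.Agent Groth.Agent.EtShLib SkySumLib PTorsCdLib

attribute [local instance] EtSliceLib.pullExact

noncomputable section

namespace EtCdFinLib

variable {X : Scheme.{u}} [IsNoetherian X] (φ : ∀ (Y : Scheme.{u}), (Y ⟶ X) → ℕ) (ℓ : ℕ)

/-- Vanishing from degree `q` on. -/
def P (q : ℕ) : Prop :=
  ∀ (S : Scheme.{u}) (g : S ⟶ X), IsFinite g → DBound φ g q → ∀ F : EtCoh.Ab S, ℓ • 𝟙 F = 0 →
    ∀ m : ℕ, q ≤ m → Subsingleton (EtCoh.H S F m)

/-- Vanishing on integral schemes finite over `X`. -/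
def ConstBound : Prop :=
  ∀ (W : Scheme.{u}) (g : W ⟶ X) [IsIntegral W] [IsFinite g] (q : ℕ), φ W g < q →
    Subsingleton (EtCoh.H W (EtCoh.const W (ZMod ℓ)) q)

variable {φ ℓ}

theorem isNoetherian_of_finite {S : Scheme.{u}} (g : S ⟶ X) [IsFinite g] : IsNoetherian S :=
  { toIsLocallyNoetherian := LocallyOfFiniteType.isLocallyNoetherian g
    toCompactSpace := QuasiCompact.compactSpace_of_compactSpace g }

variable (hφ : Mono' φ) (hℓ : 0 < ℓ)

theorem exists_maxPt_specializes {S : Scheme.{u}} (y : S) : ∃ s : MPt S, s.1 ⤳ y := by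
  have hZ := irreducibleComponent_mem_irreducibleComponents y
  obtain ⟨η, hη⟩ := QuasiSober.sober hZ.1 isClosed_irreducibleComponent
  refine ⟨⟨η, fun v hv => ?_⟩, hη.specializes mem_irreducibleComponent⟩
  have h1 : closure {v} ≤ irreducibleComponent y :=
    hZ.2 isIrreducible_singleton.closure (by
      rw [← hη.def]
      exact closure_minimal (Set.singleton_subset_iff.2 (specializes_iff_mem_closure.1 hv)) isClosed_closure)
  exact ((hη.specializes (h1 (subset_closure rfl))).antisymm hv).eq.symm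

include hφ hℓ in
theorem small {q : ℕ} (ih : P φ ℓ q) {S : Scheme.{u}} (g : S ⟶ X) [IsFinite g] (hD : DBound φ g (q + 1))
    (G : EtCoh.Ab S) (hG : ℓ • 𝟙 G = 0) (h0 : ZeroAtMax G) (m : ℕ) (hm : q ≤ m) :
    Subsingleton (EtCoh.H S G m) := by
  haveI := isNoetherian_of_finite g
  refine subsingleton_of_forall_eq 0 fun x => ?_
  obtain ⟨I, ι, hι, hI, z, rfl⟩ := PTorsCdLib.exists_cons_sub G
    (torsionBy_of_isTorsion (CdOneLib.isTorsion_of_nsmul_id ℓ hℓ hG)) m x
  haveI := hι
  let E : Set S := {y | ¬ DivSeqLib.IsMaxPt y}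
  have hE : StableUnderSpecialization E := fun a b hab ha hb => ha (hb a hab ▸ hb)
  have hsupp : EtPBC.supp G ⊆ E := supp_subset_of_stalk_zero fun Ω _ _ ξ hξ => h0 Ω ξ (not_not.1 hξ)
  let T : Set S := closure (EtPBC.supp I)
  have hTE : T ⊆ E := fun y hy => by
    obtain ⟨v, hv, hvy⟩ := exists_specializes_supp hI hy
    exact hE hvy (hsupp (supp_subset_of_mono ι hv))
  let J := Scheme.IdealSheafData.vanishingIdeal (X := S) ⟨T, isClosed_closure⟩
  let i : J.subscheme ⟶ S := J.subschemeι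
  have hr : Set.range i.base = T := J.range_subschemeι.trans
    (Scheme.IdealSheafData.coe_support_vanishingIdeal (X := S) ⟨T, isClosed_closure⟩)
  have hDi : DBound φ (i ≫ g) q := hD.pred hφ i fun b => by
    obtain ⟨s, hs⟩ : ∃ s : MPt S, s.1 ⤳ i.base b := exists_maxPt_specializes (i.base b)
    exact ⟨s.1, fun h => hTE (hr ▸ h) s.2, hs⟩
  haveI : (EtCoh.pull i).Additive := (EtCoh.pullPushAdj i).left_adjoint_additive
  haveI := ih J.subscheme (i ≫ g) inferInstance hDi ((EtCoh.pull i).obj I)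
    (CdPrimeLib.nsmul_id_map (EtCoh.pull i) (PTorsCdLib.nsmul_id_of_mono ι hG)) m hm
  haveI : IsIso ((EtCoh.pullPushAdj i).unit.app I) := by
    refine unit_isIso_of_vanish i I fun U hU => ?_
    refine ⟨fun a b => eq_of_germ (A := AddCommGrpCat.{u + 1}) I a b fun Ω _ _ ξ w => ?_⟩
    refine @Subsingleton.elim _ (AddCommGrpCat.subsingleton_of_isZero (isZero_stalk_of_notMem_supp ξ ?_)) _ _
    intro hmem
    refine hU ⟨w.pt, ?_⟩ (hr.ge (subset_closure hmem))
    show U.hom.base (w.hom.base default) = ξ.base default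
    exact congrArg (fun t : Spec (CommRingCat.of Ω) ⟶ S => t.base default) w.w
  haveI h1 : Subsingleton (EtCoh.H S ((EtCoh.pull i ⋙ EtCoh.push i).obj I) m) :=
    CdCharPLib.subsingleton_push_H i _ m inferInstance
  have h2 : Subsingleton (EtCoh.H S I m) :=
    (EtAcycLib.bijective_mk₀_iso_postcomp (asIso ((EtCoh.pullPushAdj i).unit.app I)) m).1.subsingleton
  rw [h2.elim z 0, Ext.zero_comp]

theorem isZero_stalk_push_closed {Z S : Scheme.{u}} (i : Z ⟶ S) [IsClosedImmersion i] (A : EtCoh.Ab Z)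
    {Ω : Type u} [Field Ω] [IsSepClosed Ω] (ξ : Spec (CommRingCat.of Ω) ⟶ S) (h : ξ.base default ∉ Set.range i.base) :
    IsZero ((stk (A := AddCommGrpCat.{u + 1}) ξ).obj ((EtCoh.push i).obj A)) := by
  haveI : Subsingleton ((stk (A := AddCommGrpCat.{u + 1}) ξ).obj ((EtCoh.push i).obj A)) := by
    refine subsingleton_stalk ξ (T := (Set.range i.base)ᶜ) i.isClosedEmbedding.isClosed_range.isOpen_compl h
      fun U hU => ?_
    haveI : IsEmpty ((EtCoh.bc i).obj U).left := ⟨fun z =>
      hU ⟨(pullback.fst U.hom i).base z, rfl⟩ ⟨(pullback.snd U.hom i).base z,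
        congrArg (fun t : ((EtCoh.bc i).obj U).left ⟶ S => t.base z) (pullback.condition (f := U.hom) (g := i)).symm⟩⟩
    exact subsingleton_sect_of_isEmpty A ((EtCoh.bc i).obj U)
  exact AddCommGrpCat.isZero_of_subsingleton _

variable (h2 : ConstBound φ ℓ)

include hφ hℓ h2 in
theorem van_extZero {q : ℕ} (ih : P φ ℓ q) {S : Scheme.{u}} (g : S ⟶ X) [IsFinite g] (hD : DBound φ g (q + 1))
    (U : S.Opens) [AlgebraicGeometry.Etale U.ι] [EtShriek.JCont U.ι] (m : ℕ) (hm : q + 1 ≤ m) :
    Subsingleton (EtCoh.H S ((EtShriek.extZero U.ι).obj ((EtShriek.restrAlong U.ι).obj (EtCoh.const S (ZMod ℓ)))) m) := by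
  classical
  haveI := isNoetherian_of_finite g
  obtain ⟨m', rfl⟩ : ∃ m', m = m' + 1 := ⟨m - 1, by omega⟩
  choose W c hW hc hr using fun s : S => exists_closure_subscheme s
  let K := EtCoh.const S (ZMod ℓ)
  have hK : ℓ • 𝟙 K = 0 := EtStrictAcycLib.nsmul_id_const ℓ
  let ι' := {x : MPt S // x.1 ∈ U}
  haveI : Fintype ι' := Fintype.ofFinite _
  haveI := fun x : ι' => hW x.1.1
  haveI := fun x : ι' => hc x.1.1
  let KC : ι' → EtCoh.Ab S := fun x => (EtCoh.push (c x.1.1)).obj ((EtCoh.pull (c x.1.1)).obj K)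
  let δ := (EtShriek.extZeroAdj U.ι).counit.app K
  let u : (EtShriek.extZero U.ι).obj ((EtShriek.restrAlong U.ι).obj K) ⟶ ⨁ KC :=
    δ ≫ biproduct.lift fun x : ι' => (EtCoh.pullPushAdj (c x.1.1)).unit.app K
  have hA : ℓ • 𝟙 ((EtShriek.extZero U.ι).obj ((EtShriek.restrAlong U.ι).obj K)) = 0 := by
    haveI : (EtShriek.extZero U.ι).Additive := (EtShriek.extZeroAdj U.ι).left_adjoint_additive
    haveI : (EtShriek.restrAlong U.ι).Additive := (EtShriek.extZeroAdj U.ι).right_adjoint_additive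
    exact CdPrimeLib.nsmul_id_map (EtShriek.extZero U.ι) (CdPrimeLib.nsmul_id_map (EtShriek.restrAlong U.ι) hK)
  have hB : ℓ • 𝟙 (⨁ KC) = 0 := PTorsCdLib.nsmul_id_biproduct _ fun x => by
    haveI : (EtCoh.push (c x.1.1)).Additive := { }
    haveI : (EtCoh.pull (c x.1.1)).Additive := (EtCoh.pullPushAdj (c x.1.1)).left_adjoint_additive
    exact CdPrimeLib.nsmul_id_map (EtCoh.push (c x.1.1)) (CdPrimeLib.nsmul_id_map (EtCoh.pull (c x.1.1)) hK)
  have hu : ∀ (Ω : Type u) [Field Ω] [IsSepClosed Ω] (ξ : Spec (CommRingCat.of Ω) ⟶ S),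
      DivSeqLib.IsMaxPt (ξ.base default) → IsIso ((stk (A := AddCommGrpCat.{u + 1}) ξ).map u) := by
    intro Ω _ _ ξ hmax
    let T := stk (A := AddCommGrpCat.{u + 1}) ξ
    have hz : ∀ y : ι', ξ.base default ≠ y.1.1 → IsZero (T.obj (KC y)) := fun y hy =>
      isZero_stalk_push_closed (c y.1.1) _ ξ fun h => hy (by
        rw [hr, ← specializes_iff_mem_closure] at h
        exact (hmax _ h).symm)
    have h2' := congrArg (fun t => T.map t) (IsBilimit.total (biproduct.isBilimit KC))
    simp only [Functor.map_sum, CategoryTheory.Functor.map_id] at h2'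
    by_cases hU : ξ.base default ∈ U
    · let x₀ : ι' := ⟨⟨ξ.base default, hmax⟩, hU⟩
      let π := biproduct.π KC x₀
      let ι := biproduct.ι KC x₀
      haveI : IsIso (T.map π) := by
        refine ⟨T.map ι, ?_, ?_⟩
        · rw [Finset.sum_eq_single x₀ (fun y _ hy => by
            rw [Functor.map_comp, (hz y fun e => hy (Subtype.ext (Subtype.ext e.symm))).eq_of_tgt (T.map _) 0, zero_comp])
            (fun h => absurd (Finset.mem_univ _) h), Functor.map_comp] at h2'
          exact h2'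
        · rw [← Functor.map_comp, biproduct.ι_π_self, CategoryTheory.Functor.map_id]
      haveI : IsIso (T.map δ) := isIso_counit_stalk U.ι K ξ (by rw [Scheme.Opens.range_ι]; exact hU)
      obtain ⟨ζ, hζ⟩ := exists_factor (c x₀.1.1) ξ (by rw [hr]; exact subset_closure rfl)
      haveI : IsIso (T.map ((EtCoh.pullPushAdj (c x₀.1.1)).unit.app K)) := by
        have h7 := isIso_unit_stalk_closed (c x₀.1.1) K ζ
        rw [hζ] at h7
        exact h7
      haveI : IsIso (T.map u ≫ T.map π) := by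
        rw [← Functor.map_comp, Category.assoc, biproduct.lift_π, Functor.map_comp]
        infer_instance
      exact IsIso.of_isIso_comp_right (T.map u) (T.map π)
    · have hs : IsZero (T.obj ((EtShriek.extZero U.ι).obj ((EtShriek.restrAlong U.ι).obj K))) :=
        isZero_stalk_extZero U.ι _ ξ (by rw [Scheme.Opens.range_ι]; exact hU)
      have ht : IsZero (T.obj (⨁ KC)) := by
        rw [IsZero.iff_id_eq_zero]
        refine h2'.symm.trans (Finset.sum_eq_zero fun y _ => ?_)
        rw [Functor.map_comp, (hz y fun e => hU (e ▸ y.2)).eq_of_tgt (T.map (biproduct.π KC y)) 0, zero_comp]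
      exact ⟨0, hs.eq_of_src _ _, ht.eq_of_src _ _⟩
  refine PTorsCdLib.subsingleton_of_map u m'
    (small hφ hℓ ih g hD _ (PTorsCdLib.nsmul_id_kernel u hA) (fun Ω _ _ ξ hmax => ?_) (m' + 1) (by omega))
    (small hφ hℓ ih g hD _ (PTorsCdLib.nsmul_id_cokernel u hB) (fun Ω _ _ ξ hmax => ?_) m' (by omega))
    (PTorsCdLib.subsingleton_H_biproduct _ _ fun x => ?_)
  · exact (PTorsCdLib.isZero_stk_kernel_cokernel u ξ (hu Ω ξ hmax)).1
  · exact (PTorsCdLib.isZero_stk_kernel_cokernel u ξ (hu Ω ξ hmax)).2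
  · refine CdCharPLib.subsingleton_push_H (c x.1.1) _ _ ?_
    haveI := h2 (W x.1.1) (c x.1.1 ≫ g) (m' + 1) ((hD (W x.1.1) (c x.1.1)).trans_le (by omega))
    exact (EtAcycLib.bijective_mk₀_iso_postcomp (EtCore.pullConst (c x.1.1) (ZMod ℓ)) (m' + 1)).1.subsingleton

end EtCdFinLib
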